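import Mathlib.GroupTheory.GroupAction.Basic
import Mathlib.GroupTheory.Sylow
import Cfsg.Agent.Lib.Involutions.Basic

/-!
# Proper 2-generated core with a good involution: the setting, translation, polygons

Owner: helper72.  `Ω` is the set of cosets of the maximal subgroup, `u` the central involution of a
Sylow 2-subgroup with more than one fixed point, `q` the base point.  Inside `Fix u` every further
involution commuting with `u` fixes exactly one point (`exists_pt`, `pt_unique`).
-/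

set_option autoImplicit false

universe u v

namespace Cfsg.Agent.Lib.Gamma2Good72

open Cfsg.Agent.Lib.Involutions.Basic

variable {G : Type u} [Group G] {Ω : Type v} [MulAction G Ω]

/-- The setting: at most one point is fixed by a four-group, the fixed points of `u` form one orbit
of its centraliser, some involution commuting with `u` is moved to its translate. -/
structure Setting (z₀ : G) (q : Ω) : Prop where
  odd : Odd (Nat.card Ω)
  four : ∀ x y : G, orderOf x = 2 → orderOf y = 2 → Commute x y → x ≠ y →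
    ∀ p p' : Ω, x • p = p → y • p = p → x • p' = p' → y • p' = p' → p = p'
  invol : orderOf z₀ = 2
  fixq : z₀ • q = q
  trans : ∀ p p' : Ω, z₀ • p = p → z₀ • p' = p' → ∃ x : G, Commute x z₀ ∧ x • p = p'
  moves : ∃ p : Ω, z₀ • p = p ∧ p ≠ q
  noncentral : ∃ a s : G, orderOf a = 2 ∧ a ≠ z₀ ∧ Commute a z₀ ∧ Commute s z₀ ∧
    s * a * s⁻¹ = a * z₀

/-- An involution fixing exactly one point. -/
def Good (g : G) (p : Ω) : Prop := orderOf g = 2 ∧ g • p = p ∧ ∀ p' : Ω, g • p' = p' → p' = p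

theorem smul_inv_of_fixed {g : G} {p : Ω} (h : g • p = p) : g⁻¹ • p = p :=
  inv_smul_eq_iff.2 h.symm

theorem fixed_of_commute {g x : G} {p : Ω} (hc : Commute g x) (hg : g • p = p) :
    g • (x • p) = x • p := by
  rw [smul_smul, hc.eq, ← smul_smul, hg]

theorem conj_fix {g x : G} {p : Ω} (hg : g • p = p) : (x * g * x⁻¹) • (x • p) = x • p := by
  rw [smul_smul, mul_assoc, inv_mul_cancel, mul_one, ← smul_smul, hg]

theorem conj_fix_iff {g x : G} {p : Ω} :
    (x * g * x⁻¹) • p = p ↔ g • (x⁻¹ • p) = x⁻¹ • p := by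
  rw [mul_smul, mul_smul, smul_eq_iff_eq_inv_smul]

theorem Good.conj {g : G} {p : Ω} (h : Good g p) (x : G) : Good (x * g * x⁻¹) (x • p) := by
  refine ⟨(orderOf_conj_eq x g).trans h.1, conj_fix h.2.1, fun p' hp' => ?_⟩
  rw [← h.2.2 _ (conj_fix_iff.1 hp'), smul_inv_smul]

/-- A member of a class fixing two points is not good. -/
theorem Good.not_conj {g w : G} {p : Ω} (h : Good g p) {p₁ p₂ : Ω} (h1 : w • p₁ = p₁)
    (h2 : w • p₂ = p₂) (hne : p₁ ≠ p₂) : ¬ IsConj g w := by
  rintro hc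
  obtain ⟨x, rfl⟩ := isConj_iff.1 hc
  exact hne (smul_left_cancel _ ((h.2.2 _ (conj_fix_iff.1 h1)).trans
    (h.2.2 _ (conj_fix_iff.1 h2)).symm))

variable [Finite G] [Finite Ω] {z₀ : G} {q : Ω}

/-- A 2-subgroup fixes a point. -/
theorem Setting.exists_fixed (h : Setting z₀ q) {P : Subgroup G} (hP : IsPGroup 2 P) :
    ∃ p : Ω, ∀ g ∈ P, g • p = p := by
  haveI : Fact (Nat.Prime 2) := ⟨Nat.prime_two⟩
  have hmod := hP.card_modEq_card_fixedPoints Ω
  have hne : Nonempty (MulAction.fixedPoints P Ω) := by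
    by_contra hcon
    haveI : IsEmpty (MulAction.fixedPoints P Ω) := not_nonempty_iff.1 hcon
    rw [Nat.card_of_isEmpty (α := MulAction.fixedPoints P Ω)] at hmod
    exact Nat.not_even_iff_odd.2 h.odd (even_iff_two_dvd.2 (Nat.modEq_zero_iff_dvd.1 hmod))
  obtain ⟨⟨p, hp⟩⟩ := hne
  exact ⟨p, fun g hg => hp ⟨g, hg⟩⟩

/-- The subgroup generated by two commuting involutions is a 2-group. -/
theorem isPGroup_pair {x y : G} (hx : orderOf x = 2) (hy : orderOf y = 2) (hc : Commute x y) :
    IsPGroup 2 (Subgroup.closure ({x, y} : Set G)) := by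
  have hxy : Commute x y := hc
  have hsq : ∀ g ∈ Subgroup.closure ({x, y} : Set G), g * g = 1 ∧ Commute g x ∧ Commute g y := by
    intro g hg
    induction hg using Subgroup.closure_induction with
    | mem g hg =>
      rcases hg with rfl | hg
      · exact ⟨invol_mul_self hx, Commute.refl _, hxy⟩
      · rw [Set.mem_singleton_iff] at hg; subst hg
        exact ⟨invol_mul_self hy, hxy.symm, Commute.refl _⟩
    | one => exact ⟨one_mul 1, Commute.one_left _, Commute.one_left _⟩
    | mul a b ha hb iha ihb =>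
      have hab : Commute a b := by
        have : b ∈ Subgroup.centralizer ({a} : Set G) := by
          refine (Subgroup.closure_le _).2 ?_ hb
          rintro g (rfl | rfl)
          · exact Subgroup.mem_centralizer_singleton_iff.2 iha.2.1.symm.eq
          · exact Subgroup.mem_centralizer_singleton_iff.2 iha.2.2.symm.eq
        exact (show Commute b a from Subgroup.mem_centralizer_singleton_iff.1 this).symm
      refine ⟨?_, iha.2.1.mul_left ihb.2.1, iha.2.2.mul_left ihb.2.2⟩
      calc a * b * (a * b) = a * (b * a) * b := by group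
        _ = a * (a * b) * b := by rw [hab.eq]
        _ = a * a * (b * b) := by group
        _ = 1 := by rw [iha.1, ihb.1, one_mul]
    | inv a ha iha => exact ⟨by rw [← mul_inv_rev, iha.1, inv_one], iha.2.1.inv_left, iha.2.2.inv_left⟩
  intro g
  exact ⟨1, Subtype.ext (by simpa [pow_two] using (hsq g g.2).1)⟩

/-- Every involution commuting with `z₀` fixes a point of `Fix z₀`. -/
theorem Setting.exists_pt (h : Setting z₀ q) {g : G} (hg : orderOf g = 2) (hc : Commute g z₀) :
    ∃ p : Ω, g • p = p ∧ z₀ • p = p := by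
  obtain ⟨p, hp⟩ := h.exists_fixed (isPGroup_pair hg h.invol hc)
  exact ⟨p, hp g (Subgroup.subset_closure (Set.mem_insert _ _)),
    hp z₀ (Subgroup.subset_closure (Set.mem_insert_of_mem _ rfl))⟩

theorem Setting.pt_unique (h : Setting z₀ q) {g : G} (hg : orderOf g = 2) (hc : Commute g z₀)
    (hne : g ≠ z₀) {p p' : Ω} (hp : g • p = p) (hp₀ : z₀ • p = p) (hp' : g • p' = p')
    (hp'₀ : z₀ • p' = p') : p = p' :=
  h.four g z₀ hg h.invol hc hne p p' hp hp₀ hp' hp'₀

/-- TRANSLATION: an involution `g ≠ z₀` of the centraliser is conjugate there to `g * z₀`. -/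
theorem Setting.translation (h : Setting z₀ q) {g : G} (hg : orderOf g = 2) (hc : Commute g z₀)
    (hne : g ≠ z₀) : ∃ x : G, Commute x z₀ ∧ x * g * x⁻¹ = g * z₀ := by
  obtain ⟨a, s, ha, hane, hac, hsc, hsa⟩ := h.noncentral
  obtain ⟨pg, hpg, hpg₀⟩ := h.exists_pt hg hc
  obtain ⟨pa, hpa, hpa₀⟩ := h.exists_pt ha hac
  -- a point of `Fix z₀` other than `pg`
  obtain ⟨p₁, hp₁₀, hp₁⟩ : ∃ p, z₀ • p = p ∧ p ≠ pg := by
    obtain ⟨p, hp, hpq⟩ := h.moves
    by_cases hq : q = pg
    · exact ⟨p, hp, hq ▸ hpq⟩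
    · exact ⟨q, h.fixq, hq⟩
  obtain ⟨y, hyc, hy⟩ := h.trans pa p₁ hpa₀ hp₁₀
  set w : G := y * a * y⁻¹ with hwdef
  have hw : orderOf w = 2 := (orderOf_conj_eq y a).trans ha
  have hwc : Commute w z₀ := (hyc.mul_left hac).mul_left hyc.inv_left
  have hwne : w ≠ z₀ := fun e => hane (by
    have h1 : y * a = z₀ * y := by
      rw [← e, hwdef]; group
    rw [← hyc.eq] at h1
    exact mul_left_cancel h1)
  have hwp : w • p₁ = p₁ := hy ▸ conj_fix hpa
  have hwu : ∃ x, Commute x z₀ ∧ x * w * x⁻¹ = w * z₀ := by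
    refine ⟨y * s * y⁻¹, (hyc.mul_left hsc).mul_left hyc.inv_left, ?_⟩
    calc y * s * y⁻¹ * (y * a * y⁻¹) * (y * s * y⁻¹)⁻¹ = y * (s * a * s⁻¹) * y⁻¹ := by group
      _ = y * a * (z₀ * y⁻¹) := by rw [hsa]; group
      _ = y * a * y⁻¹ * z₀ := by rw [← hyc.inv_left.eq]; group
  obtain ⟨x, hxc, hx⟩ := hwu
  -- `g` is conjugate in the centraliser to `w` or to `w * z₀`
  have key : ∃ d, Commute d z₀ ∧ (d * g * d⁻¹ = w ∨ d * g * d⁻¹ = w * z₀ ∨
      d * g * d⁻¹ = g * z₀) := by
    have hrc : Commute (g * w) z₀ := hc.mul_left hwc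
    rcases Nat.even_or_odd (orderOf (g * w)) with hev | hodd
    · obtain ⟨hz, hzg, hzw⟩ := central_invol hg hw hev
      set z := (g * w) ^ (orderOf (g * w) / 2) with hzdef
      have hzc : Commute z z₀ := hrc.pow_left _
      by_cases hzu : z = z₀
      · have hgw : g * (g * w) * g = (g * w)⁻¹ := invert_mul (invol_mul_self hg) (invol_mul_self hw)
        have hinv : ∀ k : ℕ, ((g * w) ^ k)⁻¹ * g * (g * w) ^ k = g * (g * w) ^ (2 * k) := fun k => by
          have h1 := invert_comm (invol_mul_self hg) hgw (-(k : ℤ))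
          rw [neg_neg, zpow_neg, zpow_natCast] at h1
          rw [h1, two_mul, pow_add, mul_assoc]
        set r := g * w with hrdef
        set m := orderOf r / 2
        rcases Nat.even_or_odd m with ⟨k, hk⟩ | ⟨k, hk⟩
        · refine ⟨(r ^ k)⁻¹, (hrc.pow_left k).inv_left, Or.inr (Or.inr ?_)⟩
          rw [inv_inv, hinv, show 2 * k = m by omega]
          exact congrArg (g * ·) hzu
        · refine ⟨(r ^ (k + 1))⁻¹, (hrc.pow_left _).inv_left, Or.inr (Or.inl ?_)⟩
          rw [inv_inv, hinv, show 2 * (k + 1) = 1 + m by omega, pow_add, pow_one, ← mul_assoc,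
            hrdef, ← mul_assoc, invol_mul_self hg, one_mul]
          exact congrArg (w * ·) hzu
      · exfalso
        obtain ⟨pz, hpz, hpz₀⟩ := h.exists_pt hz hzc
        have e1 : pz = pg := by
          have hg' : z • (g • pz) = g • pz := fixed_of_commute hzg hpz
          have hg₀ : z₀ • (g • pz) = g • pz := fixed_of_commute hc.symm hpz₀
          have := h.pt_unique hz hzc hzu hpz hpz₀ hg' hg₀
          exact h.pt_unique hg hc hne this.symm hpz₀ hpg hpg₀
        have e2 : pz = p₁ := by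
          have hg' : z • (w • pz) = w • pz := fixed_of_commute hzw hpz
          have hg₀ : z₀ • (w • pz) = w • pz := fixed_of_commute hwc.symm hpz₀
          have := h.pt_unique hz hzc hzu hpz hpz₀ hg' hg₀
          exact h.pt_unique hw hwc hwne this.symm hpz₀ hwp hp₁₀
        exact hp₁ (e2.symm.trans e1)
    · obtain ⟨d, hd, hdg⟩ := exists_conj_of_odd (invol_mul_self hg) (invol_mul_self hw) hodd
      refine ⟨d, ?_, Or.inl hdg⟩
      have hle : Subgroup.closure ({g, w} : Set G) ≤ Subgroup.centralizer ({z₀} : Set G) := by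
        rw [Subgroup.closure_le]
        rintro e (rfl | rfl)
        · exact Subgroup.mem_centralizer_singleton_iff.2 hc.eq
        · exact Subgroup.mem_centralizer_singleton_iff.2 hwc.eq
      exact Subgroup.mem_centralizer_singleton_iff.1 (hle hd)
  obtain ⟨d, hdc, hd⟩ := key
  rcases hd with hd | hd | hd
  · refine ⟨d⁻¹ * x * d, (hdc.inv_left.mul_left hxc).mul_left hdc, ?_⟩
    calc d⁻¹ * x * d * g * (d⁻¹ * x * d)⁻¹ = d⁻¹ * (x * (d * g * d⁻¹) * x⁻¹) * d := by group
      _ = d⁻¹ * (d * g * d⁻¹ * z₀) * d := by rw [hd, hx]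
      _ = g * (d⁻¹ * (z₀ * d)) := by group
      _ = g * z₀ := by rw [← hdc.eq]; group
  · refine ⟨d⁻¹ * x⁻¹ * d, (hdc.inv_left.mul_left hxc.inv_left).mul_left hdc, ?_⟩
    calc d⁻¹ * x⁻¹ * d * g * (d⁻¹ * x⁻¹ * d)⁻¹ = d⁻¹ * (x⁻¹ * (d * g * d⁻¹) * x) * d := by group
      _ = d⁻¹ * (x⁻¹ * (x * w * x⁻¹) * x) * d := by rw [hd, hx]
      _ = d⁻¹ * (w * z₀) * (z₀⁻¹ * d) := by group
      _ = d⁻¹ * (d * g * d⁻¹) * (z₀⁻¹ * d) := by rw [hd]
      _ = g * (d⁻¹ * (z₀⁻¹ * d)) := by group
      _ = g * z₀⁻¹ := by rw [← hdc.inv_right.eq]; group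
      _ = g * z₀ := by rw [invol_inv h.invol]
  · exact ⟨d, hdc, hd⟩

/-- The translate of a good involution is good at the same point. -/
theorem Setting.good_translate (h : Setting z₀ q) {g : G} {p : Ω} (hg : Good g p)
    (hc : Commute g z₀) (hne : g ≠ z₀) : Good (g * z₀) p ∧ z₀ • p = p := by
  have hp₀ : z₀ • p = p := hg.2.2 _ (fixed_of_commute hc hg.2.1)
  obtain ⟨x, hxc, hx⟩ := h.translation hg.1 hc hne
  have h1 := hg.conj x
  rw [hx] at h1
  refine ⟨?_, hp₀⟩
  have h2 : (g * z₀) • p = p := by rw [mul_smul, hp₀, hg.2.1]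
  rwa [← h1.2.2 p h2] at h1

end Cfsg.Agent.Lib.Gamma2Good72
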