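import Cfsg.Agent.Lib.Gamma2Good72.Pairs

/-!
# Good involutions commute with `z₀` modulo the odd core of the point stabiliser

Owner: helper72.  `Setting.good_commutator` is the theorem: for every good involution `v` at `q` the
commutator of `v` and `z₀` lies in the odd core of the stabiliser of `q`.
-/

set_option autoImplicit false

universe u v

namespace Cfsg.Agent.Lib.Gamma2Good72

open Cfsg.Agent.Lib.Involutions.Basic
open Subgroup

variable {G : Type u} [Group G] {Ω : Type v} [MulAction G Ω]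
variable [Finite G] [Finite Ω] {z₀ : G} {q : Ω}

/-- EQUALITY: a good involution normalises the involutions fixing its point and another one. -/
theorem Setting.good_normalises (h : Setting z₀ q) {g : G} {p : Ω} (hg : Good g p)
    (hgc : Commute g z₀) (hgne : g ≠ z₀) {p₁ : Ω} (hp₁ : z₀ • p₁ = p₁) {x : G}
    (hx : x ∈ U G p p₁) : g * x * g⁻¹ ∈ U G p p₁ := by
  have hp₀ : z₀ • p = p := (h.good_translate hg hgc hgne).2
  obtain ⟨y, hyc, hy⟩ := h.trans p p₁ hp₀ hp₁
  have hwc : Commute (y * g * y⁻¹) z₀ := (hyc.mul_left hgc).mul_left hyc.inv_left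
  have hwne : y * g * y⁻¹ ≠ z₀ := fun e => hgne (by
    have h1 : y * g = z₀ * y := by rw [← e]; group
    rw [← hyc.eq] at h1
    exact mul_left_cancel h1)
  have hw := hg.conj y
  rw [hy] at hw
  obtain ⟨r, hrc, hinv, c, hcodd, hcp, i, hi⟩ :=
    h.polygon hg.1 hgc hgne hw.1 hwc hwne hg.2.1 hp₀ hw.2.1 hp₁
  have hgg := invol_mul_self hg.1
  have hfix₀ : ∀ k : ℤ, z₀ • (r ^ k • p) = r ^ k • p := fun k =>
    fixed_of_commute (hrc.symm.zpow_right k) hp₀
  have hrefl : ∀ k : ℤ, g • (r ^ k • p) = r ^ (-k) • p := fun k =>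
    smul_reflect hgg hinv hg.2.1 k
  set F : ℤ → ℕ := fun k => (U G p (r ^ k • p)).ncard with hF
  have hper : ∀ k e : ℤ, F (k + (c : ℤ) * e) = F k := fun k e => by
    simp only [hF]; rw [zpow_add, mul_smul, zpow_smul_of_fixed hcp]
  have hsub : ∀ k : ℤ, U G (r ^ k • p) (r ^ (-k) • p) ⊆ U G p (r ^ k • p) := fun k z hz =>
    ⟨hz.1, h.midpoint hg hgc hgne (hfix₀ k) (by rw [hrefl]; exact hz), hz.2.1⟩
  have hsub' : ∀ k : ℤ, U G (r ^ k • p) (r ^ (-k) • p) ⊆ U G p (r ^ (-k) • p) := fun k z hz =>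
    ⟨hz.1, h.midpoint hg hgc hgne (hfix₀ k) (by rw [hrefl]; exact hz), hz.2.2⟩
  have hdouble : ∀ k : ℤ, (U G (r ^ k • p) (r ^ (-k) • p)).ncard = F (2 * k) := fun k => by
    simp only [hF]
    rw [← ncard_U_conj p (r ^ (2 * k) • p) (r ^ (-k)), U_comm, smul_smul, ← zpow_add,
      show -k + 2 * k = k by ring]
  have hle : ∀ k : ℤ, F (2 * k) ≤ F k := fun k => by
    rw [← hdouble]; exact Set.ncard_le_ncard (hsub k) (Set.toFinite _)
  have hpow : ∀ (j : ℕ) (k : ℤ), F (2 ^ (j + 1) * k) ≤ F (2 * k) := by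
    intro j
    induction j with
    | zero => intro k; simp
    | succ j ih =>
      intro k
      calc F (2 ^ (j + 1 + 1) * k) = F (2 * (2 ^ (j + 1) * k)) := by congr 1; ring
        _ ≤ F (2 ^ (j + 1) * k) := hle _
        _ ≤ F (2 * k) := ih k
  have heq : ∀ k : ℤ, F (2 * k) = F k := fun k => by
    refine le_antisymm (hle k) ?_
    have hc0 : 0 < c := hcodd.pos
    have hmod : 2 ^ c.totient ≡ 1 [MOD c] :=
      Nat.ModEq.pow_totient (Nat.coprime_two_left.2 hcodd)
    obtain ⟨e, he⟩ := (Nat.modEq_iff_dvd' (Nat.one_le_two_pow)).1 hmod.symm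
    have h1 : ((2 : ℤ) ^ c.totient) * k = k + (c : ℤ) * (e * k) := by
      have h2 : 2 ^ c.totient = 1 + c * e := by
        have := Nat.one_le_two_pow (n := c.totient); omega
      have h3 : ((2 : ℤ) ^ c.totient) = 1 + (c : ℤ) * e := by exact_mod_cast h2
      rw [h3]; ring
    obtain ⟨j, hj⟩ := Nat.exists_eq_succ_of_ne_zero (Nat.totient_pos.2 hc0).ne'
    have h4 := hpow j k
    rwa [← Nat.succ_eq_add_one, ← hj, h1, hper] at h4
  have hneg : ∀ k : ℤ, F (-k) = F k := fun k => by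
    simp only [hF]
    rw [← ncard_U_conj p (r ^ k • p) g, hg.2.1, hrefl]
  have e1 : U G (r ^ i • p) (r ^ (-i) • p) = U G p (r ^ i • p) :=
    Set.eq_of_subset_of_ncard_le (hsub i) (by rw [hdouble, heq]) (Set.toFinite _)
  have e2 : U G (r ^ i • p) (r ^ (-i) • p) = U G p (r ^ (-i) • p) :=
    Set.eq_of_subset_of_ncard_le (hsub' i)
      (by rw [hdouble, heq, ← hneg]) (Set.toFinite _)
  have hgx := (mem_U_conj g x).2 hx
  rw [hg.2.1, ← hi, hrefl, ← e2, e1, hi] at hgx
  exact hgx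

/-- COVER: one pair is normalised by all good involutions at `q`. -/
theorem Setting.good_normalises_cover (h : Setting z₀ q)
    (hni : ∃ a : G, IsConj z₀ a ∧ a ≠ z₀ ∧ Commute a z₀) :
    ∃ q' : Ω, z₀ • q' = q' ∧ q ≠ q' ∧
      ∀ v : G, Good v q → ∀ x ∈ U G q q', v * x * v⁻¹ ∈ U G q q' := by
  obtain ⟨a₀, ha₀, ha₀ne, ha₀c⟩ := hni
  have ha₀2 : orderOf a₀ = 2 := by
    obtain ⟨x, rfl⟩ := isConj_iff.1 ha₀
    exact (orderOf_conj_eq x z₀).trans h.invol
  obtain ⟨pa, hpa, hpa₀⟩ := h.exists_pt ha₀2 ha₀c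
  obtain ⟨ps, hps, hpsq⟩ := h.moves
  obtain ⟨y, hyc, hy⟩ := h.trans pa ps hpa₀ hps
  set a := y * a₀ * y⁻¹ with hadef
  have ha2 : orderOf a = 2 := (orderOf_conj_eq y a₀).trans ha₀2
  have hac : Commute a z₀ := (hyc.mul_left ha₀c).mul_left hyc.inv_left
  have hane : a ≠ z₀ := fun e => ha₀ne (by
    have h1 : y * a₀ = z₀ * y := by rw [← e, hadef]; group
    rw [← hyc.eq] at h1
    exact mul_left_cancel h1)
  have haz : IsConj z₀ a := ha₀.trans (isConj_iff.2 ⟨y, rfl⟩)
  have hap : a • ps = ps := hy ▸ conj_fix hpa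
  have hq' : z₀ • (a • q) = a • q := fixed_of_commute hac.symm h.fixq
  have hqne : q ≠ a • q := fun e =>
    hpsq (h.pt_unique ha2 hac hane hap hps e.symm h.fixq)
  refine ⟨a • q, hq', hqne, fun v hv x hx => ?_⟩
  have hev : Even (orderOf (v * a)) := by
    refine Nat.not_odd_iff_even.1 fun hodd => ?_
    obtain ⟨d, -, hd⟩ := exists_conj_of_odd (invol_mul_self hv.1) (invol_mul_self ha2) hodd
    exact hv.not_conj h.fixq hq' hqne ((isConj_iff.2 ⟨d, hd⟩).trans haz.symm)
  obtain ⟨hz, hzv, hza⟩ := central_invol hv.1 ha2 hev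
  set z := (v * a) ^ (orderOf (v * a) / 2) with hzdef
  have hzq : z • q = q := hv.2.2 _ (fixed_of_commute hzv.symm hv.2.1)
  have hzq' : z • (a • q) = a • q := by rw [smul_smul, hza.eq, mul_smul, hzq]
  obtain ⟨d, hd, hdz⟩ := h.exists_conj_O hqne (e := z₀) (x := z) ⟨h.invol, h.fixq, hq'⟩
    ⟨hz, hzq, hzq'⟩
  obtain ⟨hd1, hd2⟩ := mem_D.1 (O_le _ _ hd)
  have hg : Good (d⁻¹ * v * d) q := by
    have := hv.conj d⁻¹
    rwa [inv_inv, smul_inv_of_fixed hd1] at this
  have hgc : Commute (d⁻¹ * v * d) z₀ := by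
    have e : z₀ = d⁻¹ * z * d := by rw [← hdz]; group
    rw [e]
    show _ = _
    calc d⁻¹ * v * d * (d⁻¹ * z * d) = d⁻¹ * (v * z) * d := by group
      _ = d⁻¹ * (z * v) * d := by rw [hzv.eq]
      _ = _ := by group
  have hgne : d⁻¹ * v * d ≠ z₀ := fun e => hqne (hg.2.2 _ (e ▸ hq')).symm
  have hx' : d⁻¹ * x * d ∈ U G q (a • q) := by
    have := (mem_U_conj d⁻¹ x).2 hx
    rwa [inv_inv, smul_inv_of_fixed hd1, smul_inv_of_fixed hd2] at this
  have h2 := (mem_U_conj d _).2 (h.good_normalises hg hgc hgne hq' hx')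
  rw [hd1, hd2] at h2
  convert h2 using 1
  group

/-- END: a good involution at `q` commutes with `z₀` modulo the odd core of the stabiliser. -/
theorem Setting.good_commutator (h : Setting z₀ q)
    (hni : ∃ a : G, IsConj z₀ a ∧ a ≠ z₀ ∧ Commute a z₀) {v : G} (hv : Good v q) :
    v * z₀ * v⁻¹ * z₀⁻¹ ∈ Balance.coreIn 2 (MulAction.stabilizer G q) := by
  obtain ⟨q', hq', hne, hnorm⟩ := h.good_normalises_cover hni
  set N := closure {w : G | Good w q} with hN
  set W := closure {e : G | ∃ x ∈ U G q q', ∃ y ∈ U G q q', x * y = e} with hW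
  have hWO : W ≤ O G q q' := (closure_le _).2 fun e ⟨x, hx, y, hy, he⟩ =>
    he ▸ h.mul_mem_O hne hx hy
  have hNstab : N ≤ MulAction.stabilizer G q := (closure_le _).2 fun w hw => hw.2.1
  have hNnorm : MulAction.stabilizer G q ≤ normalizer (N : Set G) := by
    intro s hs
    have key : ∀ s : G, s • q = q → ∀ n ∈ N, s * n * s⁻¹ ∈ N := by
      intro s hs n hn
      have hle : N ≤ N.comap (MulAut.conj s).toMonoidHom := (closure_le _).2 fun w hw =>
        subset_closure (show Good (s * w * s⁻¹) q by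
          have := hw.conj s; rwa [hs] at this)
      exact hle hn
    refine mem_normalizer_iff.2 fun n => ⟨key s hs n, fun hn => ?_⟩
    simpa [mul_assoc] using key s⁻¹ (smul_inv_of_fixed hs) _ hn
  -- `N` stabilises `U`
  have hNU : ∀ n ∈ N, ∀ x, x ∈ U G q q' ↔ n * x * n⁻¹ ∈ U G q q' := by
    intro n hn
    induction hn using closure_induction with
    | mem w hw =>
      intro x
      refine ⟨hnorm w hw x, fun hx => ?_⟩
      have := hnorm w hw _ hx
      rwa [invol_inv hw.1, show w * (w * x * w) * w = w * w * x * (w * w) by group,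
        invol_mul_self hw.1, one_mul, mul_one] at this
    | one => intro x; simp
    | mul a b _ _ iha ihb => intro x; rw [ihb x, iha (b * x * b⁻¹)]; simp [mul_assoc]
    | inv a _ iha => intro x; rw [iha (a⁻¹ * x * a⁻¹⁻¹)]; simp [mul_assoc]
  have hWnorm : N ≤ normalizer (W : Set G) := by
    intro n hn
    have key : ∀ n ∈ N, ∀ e ∈ W, n * e * n⁻¹ ∈ W := by
      intro n hn e he
      have hle : W ≤ W.comap (MulAut.conj n).toMonoidHom := (closure_le _).2
        fun e ⟨x, hx, y, hy, he⟩ => subset_closure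
          ⟨_, (hNU n hn x).1 hx, _, (hNU n hn y).1 hy, by
            simp only [← he, MulEquiv.coe_toMonoidHom, MulAut.conj_apply]; group⟩
      exact hle he
    refine mem_normalizer_iff.2 fun e => ⟨key n hn e, fun he => ?_⟩
    simpa [mul_assoc] using key n⁻¹ (inv_mem hn) _ he
  have hle : W ⊓ N ≤ Balance.coreIn 2 N := by
    refine Balance.le_coreIn inf_le_right (fun n hn => ?_)
      (Nat.coprime_two_right.2 ((O_odd q q').of_dvd_nat (card_dvd_of_le (inf_le_left.trans hWO))))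
    refine mem_normalizer_iff.2 fun e => ?_
    rw [mem_inf, mem_inf, ← mem_normalizer_iff.1 (hWnorm hn) e,
      N.mul_mem_cancel_right (N.inv_mem hn), N.mul_mem_cancel_left hn]
  refine Balance.coreIn_le_coreIn hNstab hNnorm (hle ⟨?_, ?_⟩)
  · refine subset_closure ⟨_, hnorm v hv z₀ ⟨h.invol, h.fixq, hq'⟩, z₀⁻¹, ?_, rfl⟩
    rw [invol_inv h.invol]
    exact ⟨h.invol, h.fixq, hq'⟩
  · have hv' : Good (z₀ * v * z₀⁻¹) q := by
      have := hv.conj z₀; rwa [h.fixq] at this
    have e : v * z₀ * v⁻¹ * z₀⁻¹ = v * (z₀ * v * z₀⁻¹)⁻¹ := by group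
    rw [e]
    exact N.mul_mem (subset_closure hv) (N.inv_mem (subset_closure hv'))

end Cfsg.Agent.Lib.Gamma2Good72
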