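import Cfsg.Agent.Lib.Gamma2Good72.Main
import Cfsg.Agent.Lib.Gamma2Core53.Interface
import Cfsg.Agent.Lib.Gamma2Core53.Basic

/-!
# Nodes D and T of the proper 2-generated core theorem

Owner: helper72.  `propGood` and `propTranslation`: the cosets of `M` give a `Setting` for an
escaped involution which is the only involution in the centre of a Sylow 2-subgroup.
-/

set_option autoImplicit false

universe u

namespace Cfsg.Agent.Lib.Gamma2Good72

open Cfsg.Agent.Lib.Involutions.Basic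
open Cfsg.Agent.Lib
open Subgroup
open scoped commutatorElement

variable {G : Type u} [Group G]

/-- From an element outside `C` with a `2`-power in it, one with its square in it. -/
theorem exists_sq_mem {N C : Subgroup G} : ∀ (k : ℕ) {s : G}, s ∈ N → s ∉ C → s ^ 2 ^ k ∈ C →
    ∃ t ∈ N, t ∉ C ∧ t * t ∈ C := by
  intro k
  induction k with
  | zero => intro s _ hs h; exact absurd (by simpa using h) hs
  | succ k ih =>
    intro s hN hs h
    by_cases h2 : s * s ∈ C
    · exact ⟨s, hN, hs, h2⟩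
    · refine ih (N.mul_mem hN hN) h2 ?_
      rwa [← pow_two, ← pow_mul, ← pow_succ']

theorem mk_fix {M : Subgroup G} {x g : G} :
    x • (QuotientGroup.mk g : G ⧸ M) = QuotientGroup.mk g ↔ g⁻¹ * x * g ∈ M := by
  show (QuotientGroup.mk (x * g) : G ⧸ M) = _ ↔ _
  rw [QuotientGroup.eq, ← inv_mem_iff]
  simp [mul_assoc]

variable [Finite G]

/-- An involution of `S` moved to its product with the central one. -/
theorem exists_noncentral {M : Subgroup G} {S : Sylow 2 G} {z₀ : G}
    (hM : Gamma2Core53.Setting M) (hc : Gamma2Core53.Central M S z₀)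
    (huniq : ∀ x ∈ (S : Subgroup G), (S : Subgroup G) ≤ centralizer ({x} : Set G) →
      x * x = 1 → x = 1 ∨ x = z₀) :
    ∃ a s : G, orderOf a = 2 ∧ a ≠ z₀ ∧ Commute a z₀ ∧ Commute s z₀ ∧
      s * a * s⁻¹ = a * z₀ := by
  haveI : Fact (Nat.Prime 2) := ⟨Nat.prime_two⟩
  have hmax : ∀ T' : Subgroup G, IsPGroup 2 ↥T' → (S : Subgroup G) ≤ T' → T' ≤ M →
      T' = (S : Subgroup G) := fun T' h1 h2 _ => S.is_maximal' h1 h2
  obtain ⟨y, hyS, hy, hyne, -⟩ := hM.exists_partner S.isPGroup' hc.le hmax hc.mem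
  obtain ⟨a, ⟨haS, ha, hane⟩, hamax⟩ := Set.exists_max_image
    {e : G | e ∈ (S : Subgroup G) ∧ orderOf e = 2 ∧ e ≠ z₀}
    (fun e => Nat.card ↥((S : Subgroup G) ⊓ centralizer ({e} : Set G))) (Set.toFinite _)
    ⟨y, hyS, hy, hyne⟩
  have hz : ∀ e ∈ (S : Subgroup G), Commute e z₀ := fun e he =>
    mem_centralizer_singleton_iff.1 (hc.central he)
  set C := (S : Subgroup G) ⊓ centralizer ({a} : Set G) with hC
  have hlt : C < (S : Subgroup G) := lt_of_le_of_ne inf_le_left fun e => by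
    rcases huniq a haS (e ▸ inf_le_right) (invol_mul_self ha) with h | h
    · exact invol_ne_one ha h
    · exact hane h
  obtain ⟨s₀, hs₀S, hs₀C, hs₀N⟩ := Gamma2Core53.exists_normalizing S.isPGroup' hlt
  obtain ⟨k, hk⟩ := S.isPGroup' ⟨s₀, hs₀S⟩
  obtain ⟨s, ⟨hsS, hsN⟩, hsC, hss⟩ := exists_sq_mem (N := (S : Subgroup G) ⊓ normalizer (C : Set G))
    (C := C) k ⟨hs₀S, hs₀N⟩ hs₀C (by
      have h1 : s₀ ^ 2 ^ k = 1 := congrArg Subtype.val hk
      rw [h1]; exact C.one_mem)
  set b := a * (s * a * s⁻¹) with hb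
  have haC : a ∈ C := ⟨haS, mem_centralizer_singleton_iff.2 rfl⟩
  have ha'C : s * a * s⁻¹ ∈ C := (mem_normalizer_iff.1 hsN a).1 haC
  have hab : Commute (s * a * s⁻¹) a := mem_centralizer_singleton_iff.1 ha'C.2
  have haa := invol_mul_self ha
  have hb2 : b * b = 1 := by
    rw [hb]
    calc a * (s * a * s⁻¹) * (a * (s * a * s⁻¹))
        = a * ((s * a * s⁻¹) * a) * (s * a * s⁻¹) := by group
      _ = a * (a * (s * a * s⁻¹)) * (s * a * s⁻¹) := by rw [hab.eq]
      _ = a * a * (s * (a * a) * s⁻¹) := by group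
      _ = 1 := by rw [haa]; group
  have hbne : b ≠ 1 := fun e => hsC ⟨hsS, mem_centralizer_singleton_iff.2 (by
    have h1 : s * a * s⁻¹ = a := by
      rw [hb] at e
      rw [← inv_eq_of_mul_eq_one_right e, invol_inv ha]
    calc s * a = s * a * s⁻¹ * s := by group
      _ = a * s := by rw [h1])⟩
  by_cases hbz : b = z₀
  · refine ⟨a, s, ha, hane, hz a haS, hz s hsS, ?_⟩
    rw [← hbz, hb, ← mul_assoc, haa, one_mul]
  exfalso
  have hbS : b ∈ (S : Subgroup G) := mul_mem haS ha'C.1
  have hCb : ∀ e ∈ C, Commute e b := fun e he => by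
    have h1 : Commute e a := mem_centralizer_singleton_iff.1 he.2
    have h2 : Commute (s⁻¹ * e * s) a := by
      have h3 : s * (s⁻¹ * e * s) * s⁻¹ ∈ C := by simpa [mul_assoc] using he
      exact mem_centralizer_singleton_iff.1 ((mem_normalizer_iff.1 hsN _).2 h3).2
    refine h1.mul_right ?_
    show _ = _
    calc e * (s * a * s⁻¹) = s * ((s⁻¹ * e * s) * a) * s⁻¹ := by group
      _ = s * (a * (s⁻¹ * e * s)) * s⁻¹ := by rw [h2.eq]
      _ = _ := by group
  have hsb : Commute s b := by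
    have h1 : Commute (s * s) a := mem_centralizer_singleton_iff.1 hss.2
    show _ = _
    rw [hb]
    calc s * (a * (s * a * s⁻¹)) = (s * a * s⁻¹) * ((s * s) * a) * s⁻¹ := by group
      _ = (s * a * s⁻¹) * (a * (s * s)) * s⁻¹ := by rw [h1.eq]
      _ = (s * a * s⁻¹) * a * s := by group
      _ = _ := by rw [hab.eq]
  have hle : C < (S : Subgroup G) ⊓ centralizer ({b} : Set G) := by
    refine lt_of_le_of_ne (le_inf inf_le_left fun e he => ?_) fun e => hsC (e ▸ ⟨hsS, ?_⟩)
    · exact mem_centralizer_singleton_iff.2 (hCb e he).eq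
    · exact mem_centralizer_singleton_iff.2 hsb.eq
  have h1 := hamax b ⟨hbS, invol_iff.2 ⟨hb2, hbne⟩, hbz⟩
  have h2 := Subgroup.card_le_of_le hle.le
  exact hle.ne (Subgroup.eq_of_le_of_card_ge hle.le h1)

theorem setting_of_core {M : Subgroup G} {S : Sylow 2 G} {z₀ : G}
    (hM : Gamma2Core53.Setting M) (hc : Gamma2Core53.Central M S z₀)
    (huniq : ∀ x ∈ (S : Subgroup G), (S : Subgroup G) ≤ centralizer ({x} : Set G) →
      x * x = 1 → x = 1 ∨ x = z₀) :
    Setting z₀ (QuotientGroup.mk 1 : G ⧸ M) := by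
  haveI : Fact (Nat.Prime 2) := ⟨Nat.prime_two⟩
  have hu : z₀ ∈ M := hc.le hc.mem
  have hfix : ∀ p : G ⧸ M, z₀ • p = p → ∃ x : G, Commute x z₀ ∧ x • (QuotientGroup.mk 1) = p := by
    intro p hp
    induction p using QuotientGroup.induction_on with | H a =>
    rw [mk_fix] at hp
    obtain ⟨m, hm, he⟩ := hM.conj_eq' hu hc.invol (g := a⁻¹) (by rwa [inv_inv])
    rw [inv_inv] at he
    refine ⟨a * m, ?_, ?_⟩
    · show _ = _
      calc a * m * z₀ = a * (m * z₀ * m⁻¹) * m := by group
        _ = z₀ * (a * m) := by rw [he]; group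
    · show (QuotientGroup.mk (a * m * 1) : G ⧸ M) = _
      rw [mul_one, QuotientGroup.eq]
      simpa [mul_assoc] using inv_mem hm
  refine ⟨?_, ?_, hc.invol, mk_fix.2 (by simpa using hu), ?_, ?_,
    exists_noncentral hM hc huniq⟩
  · refine Nat.not_even_iff_odd.1 fun he => S.not_dvd_index ?_
    exact (even_iff_two_dvd.1 he).trans (Subgroup.index_dvd_of_le hc.le)
  · intro x y hx hy hxy hne p p'
    induction p using QuotientGroup.induction_on with | H a =>
    induction p' using QuotientGroup.induction_on with | H b =>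
    simp only [mk_fix]
    intro h1 h2 h3 h4
    obtain ⟨U, hU, -, -, hmin⟩ := Gamma2Core53.exists_four_pair
      (x := a⁻¹ * x * a) (y := a⁻¹ * y * a)
      (by simpa using (orderOf_conj_eq a⁻¹ x).trans hx)
      (by simpa using (orderOf_conj_eq a⁻¹ y).trans hy)
      (by calc a⁻¹ * x * a * (a⁻¹ * y * a) = a⁻¹ * (x * y) * a := by group
            _ = _ := by rw [hxy.eq]; group)
      (fun e => hne (mul_left_cancel (mul_right_cancel e)))
    have hle : U ≤ M.comap (MulAut.conj (b⁻¹ * a)).toMonoidHom := hmin _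
      (by simpa [mul_assoc] using h3) (by simpa [mul_assoc] using h4)
    have hb : b⁻¹ * a ∈ M := hM.mem_of_four hU (hmin M h1 h2) fun e he => by
      simpa [mul_assoc] using hle he
    rw [QuotientGroup.eq]
    simpa using inv_mem hb
  · intro p p' hp hp'
    obtain ⟨x, hx, rfl⟩ := hfix p hp
    obtain ⟨x', hx', rfl⟩ := hfix p' hp'
    exact ⟨x' * x⁻¹, hx'.mul_left hx.inv_left, by rw [smul_smul, inv_mul_cancel_right]⟩
  · obtain ⟨c, hc1, hc2⟩ := SetLike.not_le_iff_exists.1 hc.escaped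
    have hcc : c * z₀ = z₀ * c := mem_centralizer_singleton_iff.1 hc1
    refine ⟨QuotientGroup.mk c, mk_fix.2 ?_, fun e => hc2 ?_⟩
    · rwa [mul_assoc, ← hcc, inv_mul_cancel_left]
    · rw [QuotientGroup.eq, mul_one] at e
      simpa using inv_mem e

theorem propTranslation : Gamma2Core53.PropTranslation.{u} := by
  intro G _ _ M S z₀ hM hc huniq f hf hfc hne
  exact (setting_of_core hM hc huniq).translation hf hfc hne

/-- Without a second conjugate in its centraliser the involution is isolated. -/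
theorem iso_of_no_conj {z₀ : G} (hz : orderOf z₀ = 2)
    (hno : ∀ a : G, IsConj z₀ a → Commute a z₀ → a = z₀) : ZStar.Reduction.Iso z₀ := by
  refine ⟨hz, fun g => ?_⟩
  rw [← Nat.not_even_iff_odd]
  intro hev
  rw [show z₀ * g * z₀⁻¹ * g⁻¹ = z₀ * (g * z₀⁻¹ * g⁻¹) by group, invol_inv hz] at hev
  set x := g * z₀ * g⁻¹ with hxdef
  have hx : orderOf x = 2 := (orderOf_conj_eq g z₀).trans hz
  have hzx : IsConj z₀ x := isConj_iff.2 ⟨g, rfl⟩
  obtain ⟨hw, hwz, -⟩ := central_invol hz hx hev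
  set r := z₀ * x with hr
  have hinv : ∀ k : ℕ, (r ^ k)⁻¹ * z₀ * r ^ k = z₀ * r ^ (2 * k) := fun k => by
    have h1 := invert_comm (invol_mul_self hz)
      (invert_mul (invol_mul_self hz) (invol_mul_self hx)) (-(k : ℤ))
    rw [neg_neg, zpow_neg, zpow_natCast] at h1
    rw [h1, two_mul, pow_add, mul_assoc]
  set m := orderOf r / 2 with hm
  have hconj : IsConj z₀ (z₀ * r ^ m) := by
    rcases Nat.even_or_odd m with ⟨k, hk⟩ | ⟨k, hk⟩
    · refine isConj_iff.2 ⟨(r ^ k)⁻¹, ?_⟩
      rw [inv_inv, hinv, show 2 * k = m by omega]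
    · refine hzx.trans (isConj_iff.2 ⟨(r ^ k)⁻¹, ?_⟩)
      have e : x = z₀ * r := by rw [hr, ← mul_assoc, invol_mul_self hz, one_mul]
      rw [inv_inv, e, ← mul_assoc, mul_assoc ((r ^ k)⁻¹ * z₀), ← pow_succ', pow_succ, ← mul_assoc,
        hinv, mul_assoc, ← pow_succ, show 2 * k + 1 = m by omega]
  have he := hno _ hconj ((Commute.refl z₀).mul_left hwz)
  exact invol_ne_one hw (mul_eq_left.1 he)

theorem propGood : Gamma2Core53.PropGood.{u} := by
  intro G _ _ M S z₀ g hM hc huniq hgM hg hgood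
  by_cases hni : ∃ a : G, IsConj z₀ a ∧ a ≠ z₀ ∧ Commute a z₀
  · have h := setting_of_core hM hc huniq
    have hv : Good g (QuotientGroup.mk 1 : G ⧸ M) := by
      refine ⟨hg, mk_fix.2 (by simpa using hgM), fun p hp => ?_⟩
      induction p using QuotientGroup.induction_on with | H a =>
      rw [mk_fix] at hp
      have ha := hM.good_mem hgM hg hgood (g := a⁻¹) (by rwa [inv_inv])
      rw [QuotientGroup.eq, mul_one]
      exact ha
    have h1 := h.good_commutator hni hv
    rw [MulAction.stabilizer_quotient] at h1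
    rw [commutatorElement_def]
    exact h1
  · push Not at hni
    obtain ⟨N, hN, hNodd, hNc⟩ := ZStar.UniqueCase.zcentral_of_iso
      (iso_of_no_conj hc.invol fun a h1 h2 => by_contra fun e => hni a h1 e h2)
    haveI := hN
    have hNM : N ≤ M := hM.normal_odd_le hNodd
    have h1 : N.subgroupOf M ≤ Cfsg.pPrimeCore 2 ↥M := Cores.le_pPrimeCore (by
      rw [Nat.card_congr (Subgroup.subgroupOfEquivOfLe hNM).toEquiv]
      exact Nat.coprime_two_right.2 hNodd)
    have h2 : ⁅g, z₀⁆ ∈ N := by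
      rw [commutatorElement_def]
      have := inv_mem (hNc g)
      simpa [mul_assoc] using this
    exact ⟨⟨_, hNM h2⟩, h1 (show ((⟨_, hNM h2⟩ : ↥M) : G) ∈ N from h2), rfl⟩

end Cfsg.Agent.Lib.Gamma2Good72
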