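import Cfsg.Agent.Lib.Gamma2Good72.Polygon
import Cfsg.Agent.Lib.Balance.Basic
import Cfsg.Agent.Lib.ZStar.UniqueCase
import Cfsg.Agent.Lib.Goldschmidt53.RankTwoBadBW

/-!
# The involutions fixing two points; the midpoint

Owner: helper72.  `U p p'` is the set of involutions fixing both points, `O p p'` the odd core of
the two point stabiliser.  If `g` is good at `pg` then every member of `U p (g • p)` fixes `pg`.
-/

set_option autoImplicit false

universe u v

namespace Cfsg.Agent.Lib.Gamma2Good72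

open Cfsg.Agent.Lib.Involutions.Basic
open Subgroup

variable {G : Type u} [Group G] {Ω : Type v} [MulAction G Ω]

/-- The two point stabiliser. -/
def D (G : Type u) [Group G] {Ω : Type v} [MulAction G Ω] (p p' : Ω) : Subgroup G :=
  MulAction.stabilizer G p ⊓ MulAction.stabilizer G p'

/-- Its odd core. -/
def O (G : Type u) [Group G] {Ω : Type v} [MulAction G Ω] (p p' : Ω) : Subgroup G :=
  Balance.coreIn 2 (D G p p')

/-- The involutions fixing two points. -/
def U (G : Type u) [Group G] {Ω : Type v} [MulAction G Ω] (p p' : Ω) : Set G :=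
  {x | orderOf x = 2 ∧ x • p = p ∧ x • p' = p'}

theorem mem_D {p p' : Ω} {x : G} : x ∈ D G p p' ↔ x • p = p ∧ x • p' = p' := Iff.rfl

theorem U_comm (p p' : Ω) : U G p p' = U G p' p :=
  Set.ext fun _ => and_congr_right fun _ => and_comm

theorem mem_U_conj {p p' : Ω} (x g : G) :
    x * g * x⁻¹ ∈ U G (x • p) (x • p') ↔ g ∈ U G p p' := by
  simp only [U, Set.mem_ofPred_eq, orderOf_conj_eq, conj_fix_iff, inv_smul_smul]

theorem U_conj (p p' : Ω) (x : G) :
    MulAut.conj x '' U G p p' = U G (x • p) (x • p') := by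
  ext e
  constructor
  · rintro ⟨g, hg, rfl⟩; exact (mem_U_conj x g).2 hg
  · intro he
    refine ⟨x⁻¹ * e * x, ?_, by rw [MulAut.conj_apply]; group⟩
    have e' : x * (x⁻¹ * e * x) * x⁻¹ = e := by group
    exact (mem_U_conj x _).1 (e'.symm ▸ he)

theorem ncard_U_conj (p p' : Ω) (x : G) :
    (U G (x • p) (x • p')).ncard = (U G p p').ncard := by
  rw [← U_conj p p' x]
  exact Set.ncard_image_of_injective _ (MulAut.conj x).injective

variable [Finite G]

theorem O_odd (p p' : Ω) : Odd (Nat.card ↥(O G p p')) :=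
  Nat.coprime_two_right.1 (Balance.coreIn_coprime _)

theorem O_le (p p' : Ω) : O G p p' ≤ D G p p' := Balance.coreIn_le _

/-- Elements preserving or swapping the two points normalise the core. -/
theorem conj_mem_O {p p' : Ω} {x : G}
    (hx : ∀ k ∈ D G p p', x * k * x⁻¹ ∈ D G p p') (hx' : ∀ k ∈ D G p p', x⁻¹ * k * x ∈ D G p p')
    {k : G} (hk : k ∈ O G p p') : x * k * x⁻¹ ∈ O G p p' := by
  have hmap : (O G p p').map (MulAut.conj x).toMonoidHom ≤ O G p p' := by
    refine Balance.le_coreIn ?_ ?_ ?_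
    · rintro _ ⟨e, he, rfl⟩; exact hx e (O_le p p' he)
    · intro d hd
      have key : ∀ d ∈ D G p p', ∀ e ∈ (O G p p').map (MulAut.conj x).toMonoidHom,
          d * e * d⁻¹ ∈ (O G p p').map (MulAut.conj x).toMonoidHom := by
        rintro d hd _ ⟨e, he, rfl⟩
        refine ⟨(x⁻¹ * d * x) * e * (x⁻¹ * d * x)⁻¹, ?_, ?_⟩
        · exact (mem_normalizer_iff.1 (Balance.le_normalizer_coreIn _ (hx' d hd)) e).1 he
        · simp only [MulEquiv.coe_toMonoidHom, MulAut.conj_apply]; group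
      refine mem_normalizer_iff.2 fun e => ⟨key d hd e, fun he => ?_⟩
      have := key d⁻¹ (inv_mem hd) _ he
      simpa [mul_assoc] using this
    · rw [card_map_of_injective (MulAut.conj x).injective]
      exact Balance.coreIn_coprime _
  exact hmap ⟨k, hk, rfl⟩

variable [Finite Ω] {z₀ : G} {q : Ω}

/-- Z*: two members differ by an element of the core. -/
theorem Setting.mul_mem_O (h : Setting z₀ q) {p p' : Ω} (hne : p ≠ p') {e x : G}
    (he : e ∈ U G p p') (hx : x ∈ U G p p') : e * x ∈ O G p p' := by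
  have heq : ∀ y ∈ U G p p', ∀ y' ∈ U G p p', Even (orderOf (y * y')) → False := by
    intro y hy y' hy' hev
    obtain ⟨hz, hzy, hzy'⟩ := central_invol hy.1 hy'.1 hev
    have hyD : ∀ {y : G}, y ∈ U G p p' → y ∈ D G p p' := fun hy => hy.2
    have hzD : (y * y') ^ (orderOf (y * y') / 2) ∈ D G p p' :=
      pow_mem (mul_mem (hyD hy) (hyD hy')) _
    obtain ⟨hzp, hzp'⟩ := hzD
    have e1 : (y * y') ^ (orderOf (y * y') / 2) = y := by
      by_contra hzne
      exact hne (h.four _ y hz hy.1 hzy hzne p p' hzp hy.2.1 hzp' hy.2.2)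
    have e2 : (y * y') ^ (orderOf (y * y') / 2) = y' := by
      by_contra hzne
      exact hne (h.four _ y' hz hy'.1 hzy' hzne p p' hzp hy'.2.1 hzp' hy'.2.2)
    have e3 : y = y' := e1.symm.trans e2
    rw [e3, invol_mul_self hy'.1, orderOf_one] at hev
    exact Nat.not_even_one hev
  let t : ↥(D G p p') := ⟨e, he.2⟩
  have hiso : ZStar.Reduction.Iso t := by
    refine ⟨(Subgroup.orderOf_mk e _).trans he.1, fun g => ?_⟩
    rw [← Nat.not_even_iff_odd]
    intro hev
    have h1 : orderOf (t * g * t⁻¹ * g⁻¹) = orderOf (e * ((g : G) * e⁻¹ * (g : G)⁻¹)) := by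
      rw [← Subgroup.orderOf_coe]; congr 1; simp [t, mul_assoc]
    rw [h1, invol_inv he.1] at hev
    exact heq e he _ ⟨(orderOf_conj_eq _ e).trans he.1,
      ((mul_mem (mul_mem g.2 t.2) (inv_mem g.2)) : (g : G) * e * (g : G)⁻¹ ∈ D G p p')⟩ hev
  obtain ⟨N, hN, hNodd, hNc⟩ := ZStar.UniqueCase.zcentral_of_iso hiso
  obtain ⟨d, hd, hdx⟩ := exists_conj_of_odd (invol_mul_self he.1) (invol_mul_self hx.1)
    (Nat.not_even_iff_odd.1 (heq e he x hx))
  have hdD : d ∈ D G p p' := by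
    refine (closure_le _).2 ?_ hd
    rintro y (rfl | rfl)
    · exact he.2
    · exact hx.2
  have hNO : N.map (D G p p').subtype ≤ O G p p' :=
    map_mono (Cores.le_pPrimeCore (Nat.coprime_two_right.2 hNodd))
  refine hNO ⟨_, hNc ⟨d, hdD⟩, ?_⟩
  rw [← hdx]
  simp [t, invol_inv he.1, mul_assoc]

/-- Every member is a conjugate of a given one under the core. -/
theorem Setting.exists_conj_O (h : Setting z₀ q) {p p' : Ω} (hne : p ≠ p') {e x : G}
    (he : e ∈ U G p p') (hx : x ∈ U G p p') : ∃ d ∈ O G p p', d * e * d⁻¹ = x := by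
  set r := x * e with hr
  have hrO : r ∈ O G p p' := h.mul_mem_O hne hx he
  have hrodd : Odd (orderOf r) :=
    (O_odd p p').of_dvd_nat (orderOf_dvd_natCard (O G p p') hrO)
  have hinv : e * r * e = r⁻¹ := by
    rw [hr, mul_inv_rev, invol_inv he.1, invol_inv hx.1, mul_assoc e, mul_assoc x e e,
      invol_mul_self he.1, mul_one]
  obtain ⟨m, hm⟩ := hrodd
  refine ⟨r ^ (m + 1), pow_mem hrO _, ?_⟩
  have h1 := invert_comm (invol_mul_self he.1) hinv (-((m + 1 : ℕ) : ℤ))
  rw [neg_neg, zpow_neg, zpow_natCast] at h1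
  have h2 := invert_comm (invol_mul_self he.1) hinv ((m + 1 : ℕ) : ℤ)
  rw [zpow_natCast, zpow_neg, zpow_natCast] at h2
  calc r ^ (m + 1) * e * (r ^ (m + 1))⁻¹ = r ^ (m + 1) * (e * (r ^ (m + 1))⁻¹) := by group
    _ = r ^ (m + 1) * (r ^ (m + 1) * e) := by rw [← h2]
    _ = r ^ (orderOf r + 1) * e := by rw [← mul_assoc, ← pow_add]; congr 2; omega
    _ = x := by rw [pow_succ, pow_orderOf_eq_one, one_mul, hr, mul_assoc,
      invol_mul_self he.1, mul_one]

/-- MIDPOINT. -/
theorem Setting.midpoint (h : Setting z₀ q) {g : G} {pg : Ω} (hg : Good g pg)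
    (hgc : Commute g z₀) (hgne : g ≠ z₀) {p : Ω} (hp : z₀ • p = p) {x : G}
    (hx : x ∈ U G p (g • p)) : x • pg = pg := by
  rcases eq_or_ne (g • p) p with hfix | hmv
  · rw [← hg.2.2 p hfix]; exact hx.2.1
  obtain ⟨hgz, hpg₀⟩ := h.good_translate hg hgc hgne
  have hgg := invol_mul_self hg.1
  have hzz := invol_mul_self h.invol
  have hz₀U : z₀ ∈ U G p (g • p) := ⟨h.invol, hp, fixed_of_commute hgc.symm hp⟩
  -- `g` and `z₀` normalise the two point stabiliser
  have hgD : ∀ k ∈ D G p (g • p), g * k * g⁻¹ ∈ D G p (g • p) := fun k hk => by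
    obtain ⟨hk1, hk2⟩ := mem_D.1 hk
    refine mem_D.2 ⟨?_, conj_fix hk1⟩
    have := conj_fix (x := g) hk2
    rwa [smul_smul g g, hgg, one_smul] at this
  have hzD : z₀ ∈ D G p (g • p) := hz₀U.2
  set K := O G p (g • p) with hK
  have hgK : ∀ k ∈ K, g * k * g⁻¹ ∈ K := fun k hk => conj_mem_O hgD
    (fun d hd => by simpa [invol_inv hg.1] using hgD d hd) hk
  have hzK : ∀ k ∈ K, z₀ * k * z₀⁻¹ ∈ K := fun k hk =>
    conj_mem_O (fun d hd => mul_mem (mul_mem hzD hd) (inv_mem hzD))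
      (fun d hd => mul_mem (mul_mem (inv_mem hzD) hd) hzD) hk
  set H := (K ⊓ centralizer ({g} : Set G)) ⊔ (K ⊓ centralizer ({g * z₀} : Set G)) with hH
  have hHK : H ≤ K := sup_le inf_le_left inf_le_left
  have hHfix : H ≤ MulAction.stabilizer G pg := by
    refine sup_le ?_ ?_
    · intro k hk
      exact hg.2.2 _ (fixed_of_commute (Subgroup.mem_centralizer_singleton_iff.1 hk.2).symm hg.2.1)
    · intro k hk
      exact hgz.2.2 _
        (fixed_of_commute (Subgroup.mem_centralizer_singleton_iff.1 hk.2).symm hgz.2.1)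
  -- both normalise `H`
  have hnorm : ∀ y : G, (∀ k ∈ K, y * k * y⁻¹ ∈ K) → Commute y g → Commute y (g * z₀) →
      ∀ k ∈ H, y * k * y⁻¹ ∈ H := by
    intro y hy hy1 hy2 k hk
    have hle : H ≤ H.comap (MulAut.conj y).toMonoidHom := by
      refine sup_le ?_ ?_ <;> intro e he <;> refine Subgroup.mem_comap.2 ?_
      · refine mem_sup_left ⟨hy e he.1, mem_centralizer_singleton_iff.2 ?_⟩
        exact ((hy1.mul_left (mem_centralizer_singleton_iff.1 he.2)).mul_left hy1.inv_left).eq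
      · refine mem_sup_right ⟨hy e he.1, mem_centralizer_singleton_iff.2 ?_⟩
        exact ((hy2.mul_left (mem_centralizer_singleton_iff.1 he.2)).mul_left hy2.inv_left).eq
    exact hle hk
  have hgH := hnorm g hgK (Commute.refl g) ((Commute.refl g).mul_right hgc)
  have hzH := hnorm z₀ hzK hgc.symm (hgc.symm.mul_right (Commute.refl z₀))
  have hKodd : Odd (Nat.card ↥K) := O_odd p (g • p)
  have hHodd : Odd (Nat.card ↥H) := hKodd.of_dvd_nat (card_dvd_of_le hHK)
  have f1 := Goldschmidt53.RankTwoBad.brauer_wielandt K hKodd hgg hzz hgc.eq hgK hzK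
  have f2 := Goldschmidt53.RankTwoBad.brauer_wielandt H hHodd hgg hzz hgc.eq hgH hzH
  have e1 : H ⊓ centralizer ({g} : Set G) = K ⊓ centralizer ({g} : Set G) :=
    le_antisymm (inf_le_inf_right _ hHK) (le_inf le_sup_left inf_le_right)
  have e2 : H ⊓ centralizer ({g * z₀} : Set G) = K ⊓ centralizer ({g * z₀} : Set G) :=
    le_antisymm (inf_le_inf_right _ hHK) (le_inf le_sup_right inf_le_right)
  rw [e1, e2] at f2
  set f := Nat.card ↥(K ⊓ centralizer ({g} : Set G) ⊓ centralizer ({z₀} : Set G)) with hf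
  set C := centralizer ({z₀} : Set G) with hC
  have hpos : 0 < f ^ 2 := pow_pos Nat.card_pos _
  have hcross : Nat.card ↥K * Nat.card ↥(H ⊓ C) = Nat.card ↥H * Nat.card ↥(K ⊓ C) := by
    apply Nat.eq_of_mul_eq_mul_right hpos
    calc Nat.card ↥K * Nat.card ↥(H ⊓ C) * f ^ 2
        = (Nat.card ↥K * f ^ 2) * Nat.card ↥(H ⊓ C) := by ring
      _ = (Nat.card ↥H * f ^ 2) * Nat.card ↥(K ⊓ C) := by rw [f1, f2]; ring
      _ = _ := by ring
  have hq : ∀ A : Subgroup G, Nat.card ↥A =
      Nat.card (↥A ⧸ C.subgroupOf A) * Nat.card ↥(A ⊓ C) := fun A => by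
    rw [card_eq_card_quotient_mul_card_subgroup (C.subgroupOf A)]
    congr 1
    rw [← Nat.card_congr (subgroupOfEquivOfLe (inf_le_left : A ⊓ C ≤ A)).toEquiv,
      inf_subgroupOf_left]
  have hidx : Nat.card (↥H ⧸ C.subgroupOf H) = Nat.card (↥K ⧸ C.subgroupOf K) := by
    rw [hq K, hq H] at hcross
    apply Nat.eq_of_mul_eq_mul_right (Nat.mul_pos (Nat.card_pos (α := ↥(K ⊓ C)))
      (Nat.card_pos (α := ↥(H ⊓ C))))
    linarith
  let φ : ↥H ⧸ C.subgroupOf H ↪ ↥K ⧸ C.subgroupOf K :=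
    Subgroup.quotientSubgroupOfEmbeddingOfLE C hHK
  have hsurj : Function.Surjective φ :=
    ((Nat.bijective_iff_injective_and_card φ).2 ⟨φ.injective, hidx⟩).2
  obtain ⟨d, hd, hdx⟩ := h.exists_conj_O (Ne.symm hmv) hz₀U hx
  obtain ⟨kq, hk⟩ := hsurj (QuotientGroup.mk ⟨d, hd⟩)
  induction kq using QuotientGroup.induction_on with | H k =>
  rw [Subgroup.quotientSubgroupOfEmbeddingOfLE_apply_mk] at hk
  have hcen := Subgroup.mem_subgroupOf.1 (QuotientGroup.eq.1 hk)
  simp only [Subgroup.coe_mul, InvMemClass.coe_inv, Subgroup.coe_inclusion, hC,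
    mem_centralizer_singleton_iff] at hcen
  have e3 : x = (k : G) * z₀ * (k : G)⁻¹ := by
    rw [← hdx]
    calc d * z₀ * d⁻¹ = (k : G) * ((k : G)⁻¹ * d * z₀) * d⁻¹ := by group
      _ = (k : G) * (z₀ * ((k : G)⁻¹ * d)) * d⁻¹ := by rw [hcen]
      _ = _ := by group
  have hkfix : (k : G) • pg = pg := hHfix k.2
  rw [e3, mul_smul, mul_smul, smul_inv_of_fixed hkfix, hpg₀, hkfix]

end Cfsg.Agent.Lib.Gamma2Good72
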