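import Cfsg.Agent.Lib.Gamma2Good72.Basic

/-!
# Polygons in the fixed points of `z₀`

Owner: helper72.  For two involutions `g`, `w` of the centraliser with points `p`, `p₁` the orbit of
`p` under their dihedral group is an odd polygon through `p₁`.
-/

set_option autoImplicit false

universe u v

namespace Cfsg.Agent.Lib.Gamma2Good72

open Cfsg.Agent.Lib.Involutions.Basic

variable {G : Type u} [Group G] {Ω : Type v} [MulAction G Ω]

/-- An inverting element sends `r ^ k • p` to `r ^ (-k) • p`. -/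
theorem smul_reflect {g r : G} (hg : g * g = 1) (h : g * r * g = r⁻¹) {p : Ω} (hp : g • p = p)
    (k : ℤ) : g • (r ^ k • p) = r ^ (-k) • p := by
  have h1 := invert_zpow hg h k
  rw [← h1, mul_smul, mul_smul, hp]

/-- A power of `r` fixing `p` fixes it in any power. -/
theorem zpow_smul_of_fixed {r : G} {p : Ω} {c : ℤ} (hc : r ^ c • p = p) (e : ℤ) :
    r ^ (c * e) • p = p := by
  have h : r ^ c ∈ MulAction.stabilizer G p := MulAction.mem_stabilizer_iff.2 hc
  rw [zpow_mul]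
  exact MulAction.mem_stabilizer_iff.1 (zpow_mem h e)

variable [Finite G] [Finite Ω] {z₀ : G} {q : Ω}

theorem Setting.polygon (h : Setting z₀ q) {g w : G} (hg : orderOf g = 2) (hgc : Commute g z₀)
    (hgne : g ≠ z₀) (hw : orderOf w = 2) (hwc : Commute w z₀) (hwne : w ≠ z₀) {p p₁ : Ω}
    (hp : g • p = p) (hp₀ : z₀ • p = p) (hp₁ : w • p₁ = p₁) (hp₁₀ : z₀ • p₁ = p₁) :
    ∃ r : G, Commute r z₀ ∧ g * r * g = r⁻¹ ∧ ∃ c : ℕ, Odd c ∧ r ^ (c : ℤ) • p = p ∧
      ∃ i : ℤ, r ^ i • p = p₁ := by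
  set r := g * w with hr
  have hrc : Commute r z₀ := hgc.mul_left hwc
  have hgg := invol_mul_self hg
  have hinv : g * r * g = r⁻¹ := invert_mul hgg (invol_mul_self hw)
  have hfix₀ : ∀ k : ℤ, z₀ • (r ^ k • p) = r ^ k • p := fun k =>
    fixed_of_commute (hrc.symm.zpow_right k) hp₀
  obtain ⟨a, c, hcodd, hn⟩ := Nat.exists_eq_two_pow_mul_odd (orderOf_pos r).ne'
  have hdesc : ∀ j : ℕ, r ^ ((2 ^ j * c : ℕ) : ℤ) • p = p → r ^ (c : ℤ) • p = p := by
    intro j
    induction j with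
    | zero => simp
    | succ j ih =>
      intro hj
      refine ih (h.pt_unique hg hgc hgne ?_ (hfix₀ _) hp hp₀)
      rw [smul_reflect hgg hinv hp]
      have e : -((2 ^ j * c : ℕ) : ℤ) =
          ((2 ^ j * c : ℕ) : ℤ) + ((2 ^ (j + 1) * c : ℕ) : ℤ) * (-1) := by push_cast; ring
      rw [e, zpow_add, mul_smul, zpow_smul_of_fixed hj]
  have hcp : r ^ (c : ℤ) • p = p := hdesc a (by
    rw [← hn, zpow_natCast, pow_orderOf_eq_one, one_smul])
  obtain ⟨i, hi⟩ := hcodd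
  refine ⟨r, hrc, hinv, c, ⟨i, hi⟩, hcp, i, h.pt_unique hw hwc hwne ?_ (hfix₀ _) hp₁ hp₁₀⟩
  have e1 : w = g * r := by rw [hr, ← mul_assoc, hgg, one_mul]
  rw [e1, mul_smul, smul_smul r, ← zpow_one_add, smul_reflect hgg hinv hp]
  have e2 : -(1 + (i : ℤ)) = (i : ℤ) + (c : ℤ) * (-1) := by rw [hi]; push_cast; ring
  rw [e2, zpow_add, mul_smul, zpow_smul_of_fixed hcp]

end Cfsg.Agent.Lib.Gamma2Good72
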